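import Mathlib.AlgebraicGeometry.AffineTransitionLimit
import Mathlib.AlgebraicGeometry.ResidueField
import Mathlib.AlgebraicGeometry.Morphisms.Preimmersion

/-!
The underlying space of a limit of schemes with affine transition maps.
-/

set_option autoImplicit false
universe u

open CategoryTheory Limits AlgebraicGeometry

namespace GrothLib.LimStage

variable {I : Type u} [SmallCategory I] [IsCofiltered I] (D : I ⥤ Scheme.{u}) (c : Cone D)
  (hc : IsLimit c) [∀ (i j : I) (f : i ⟶ j), IsAffineHom (D.map f)]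

lemma exists_factor_residueField {X Y : Scheme.{u}} (f : X ⟶ Y) (x : X) (y : Y) (h : f x = y) :
    ∃ m : Spec (X.residueField x) ⟶ Spec (Y.residueField y),
      m ≫ Y.fromSpecResidueField y = X.fromSpecResidueField x ≫ f := by
  subst h
  exact ⟨_, f.SpecMap_residueFieldMap_fromSpecResidueField x⟩

include hc in
lemma exists_π_eq (s : ∀ i, D.obj i) (h : ∀ {i j : I} (f : i ⟶ j), D.map f (s i) = s j) :
    ∃ x : c.pt, ∀ i, c.π.app i x = s i := by
  have hex : ∀ {i j : I} (f : i ⟶ j), ∃ m : Spec ((D.obj i).residueField (s i)) ⟶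
      Spec ((D.obj j).residueField (s j)),
      m ≫ (D.obj j).fromSpecResidueField (s j) = (D.obj i).fromSpecResidueField (s i) ≫ D.map f :=
    fun f => exists_factor_residueField (D.map f) _ _ (h f)
  choose m hm using @hex
  let F : I ⥤ Scheme.{u} :=
    { obj := fun i => Spec ((D.obj i).residueField (s i))
      map := fun f => m f
      map_id := fun i => by
        rw [← cancel_mono ((D.obj i).fromSpecResidueField (s i)), hm, D.map_id,
          Category.comp_id, Category.id_comp]
      map_comp := fun {i j k} f g => by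
        rw [← cancel_mono ((D.obj k).fromSpecResidueField (s k)), hm, Category.assoc, hm,
          reassoc_of% (hm f), D.map_comp] }
  let α : F ⟶ D :=
    { app := fun i => (D.obj i).fromSpecResidueField (s i)
      naturality := fun i j f => hm f }
  haveI : ∀ i, IsAffine (F.obj i) := fun i => inferInstanceAs (IsAffine (Spec _))
  haveI : ∀ i, Nonempty (F.obj i) := fun i =>
    ⟨(default : Spec ((D.obj i).residueField (s i)))⟩
  let e : F ⟶ (F ⋙ Scheme.Γ.rightOp) ⋙ Scheme.Spec := Functor.whiskerLeft F ΓSpec.adjunction.unit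
  have (i : _) : IsIso (e.app i) := IsAffine.affine
  have : IsIso e := NatIso.isIso_of_isIso_app e
  let c' : LimitCone F := ⟨_, (IsLimit.postcomposeInvEquiv (asIso e) _).symm
      (isLimitOfPreserves Scheme.Spec (limit.isLimit (F ⋙ Scheme.Γ.rightOp)))⟩
  obtain ⟨p⟩ := Scheme.nonempty_of_isLimit F c'.1 c'.2
  let l : c'.1.pt ⟶ c.pt := hc.lift ((Cone.postcompose α).obj c'.1)
  refine ⟨l p, fun i => ?_⟩
  rw [← Scheme.Hom.comp_apply, hc.fac]
  exact Scheme.fromSpecResidueField_apply (s i) _

include hc in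
lemma isInducing_π :
    ∀ U : Set c.pt, IsOpen U → ∀ x ∈ U, ∃ (i : I) (V : Set (D.obj i)), IsOpen V ∧
      c.π.app i x ∈ V ∧ c.π.app i ⁻¹' V ⊆ U := by
  intro U hU x hx
  obtain ⟨W, ⟨i, V, -, rfl⟩, hxW, hWU⟩ := TopologicalSpace.Opens.isBasis_iff_nbhd.mp
    (isBasis_preimage_isAffineOpen D c hc) (U := ⟨U, hU⟩) (x := x) hx
  exact ⟨i, V, V.2, hxW, hWU⟩

include hc in
lemma eq_of_forall_π_eq {x y : c.pt} (h : ∀ i, c.π.app i x = c.π.app i y) : x = y := by
  refine (inseparable_iff_forall_isOpen.mpr fun U hU => ?_).eq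
  constructor
  · intro hx
    obtain ⟨i, V, -, hxV, hsub⟩ := isInducing_π D c hc U hU x hx
    exact hsub (show c.π.app i y ∈ V from h i ▸ hxV)
  · intro hy
    obtain ⟨i, V, -, hyV, hsub⟩ := isInducing_π D c hc U hU y hy
    exact hsub (show c.π.app i x ∈ V from (h i).symm ▸ hyV)

include hc in
/-- The underlying space of the limit is the limit of the underlying spaces. -/
theorem nonempty_isLimit_forgetToTop : Nonempty (IsLimit (Scheme.forgetToTop.mapCone c)) := by
  classical
  have hw : ∀ (t : Cone (D ⋙ Scheme.forgetToTop)) (z : t.pt),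
      ∀ {i j : I} (f : i ⟶ j), D.map f (t.π.app i z) = t.π.app j z := fun t z i j f =>
    congrArg (fun g => g z) (t.w f)
  choose x hx using fun (t : Cone (D ⋙ Scheme.forgetToTop)) (z : t.pt) =>
    exists_π_eq D c hc (fun i => t.π.app i z) (hw t z)
  refine ⟨⟨fun t => TopCat.ofHom ⟨x t, ?_⟩, fun t j => ?_, fun t m hm => ?_⟩⟩
  · refine continuous_def.mpr fun U hU => isOpen_iff_forall_mem_open.mpr fun z hz => ?_
    obtain ⟨i, V, hV, hzV, hsub⟩ := isInducing_π D c hc U hU (x t z) hz
    refine ⟨t.π.app i ⁻¹' V, fun z' hz' => hsub ?_, hV.preimage (t.π.app i).hom.continuous, ?_⟩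
    · change c.π.app i (x t z') ∈ V
      rw [hx t z' i]; exact hz'
    · change t.π.app i z ∈ V
      rw [← hx t z i]; exact hzV
  · ext z
    exact hx t z j
  · ext z
    refine eq_of_forall_π_eq D c hc fun i => ?_
    refine Eq.trans ?_ (hx t z i).symm
    exact congrArg (fun g => g z) (hm i)

end GrothLib.LimStage
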