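import Mathlib.AlgebraicGeometry.AffineTransitionLimit
import Mathlib.AlgebraicGeometry.Morphisms.Separated
import Mathlib.AlgebraicGeometry.Morphisms.Proper
import Mathlib.AlgebraicGeometry.PullbackCarrier
import Mathlib.CategoryTheory.Limits.Constructions.Over.Connected

set_option autoImplicit false
universe u

open CategoryTheory Limits AlgebraicGeometry

namespace GrothLib.LimStage

variable {I : Type u} [SmallCategory I] [IsCofiltered I] (D : I ⥤ Scheme.{u}) (c : Cone D)
  (hc : IsLimit c) [∀ (i j : I) (f : i ⟶ j), IsAffineHom (D.map f)]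

attribute [local instance] CategoryTheory.isConnected_of_hasTerminal

include hc in
lemma nonempty_pullback_π (i : I) {T : Scheme.{u}} (a : T ⟶ D.obj i) [CompactSpace T]
    (h : ∀ (j : I) (φ : j ⟶ i), Nonempty ↥(pullback a (D.map φ))) :
    Nonempty ↥(pullback a (c.π.app i)) := by
  let E : Over i ⥤ Scheme.{u} := Over.post D ⋙ Over.pullback a ⋙ Over.forget T
  let c' : Cone E := (Over.forget T).mapCone ((Over.pullback a).mapCone ((Over.conePost D i).obj c))
  have hc' : IsLimit c' :=
    isLimitOfPreserves (Over.forget T) (isLimitOfPreserves (Over.pullback a) (Over.isLimitConePost i hc))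
  have haff (j : Over i) : IsAffineHom (pullback.snd (D.map j.hom) a) :=
    MorphismProperty.pullback_snd _ _ inferInstance
  haveI (j : Over i) : CompactSpace (E.obj j) :=
    show CompactSpace ↥(pullback (D.map j.hom) a) from
      haveI := haff j
      QuasiCompact.compactSpace_of_compactSpace (pullback.snd (D.map j.hom) a)
  haveI (j : Over i) : Nonempty (E.obj j) :=
    show Nonempty ↥(pullback (D.map j.hom) a) from
      (h j.left j.hom).map (pullbackSymmetry a (D.map j.hom)).hom
  haveI {j k : Over i} (f : j ⟶ k) : IsAffineHom (E.map f) := by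
    have : IsAffineHom (E.map f ≫ pullback.snd (D.map k.hom) a) := by
      have he : E.map f ≫ pullback.snd (D.map k.hom) a = pullback.snd (D.map j.hom) a := by
        exact pullback.lift_snd _ _ _
      rw [he]; exact haff j
    exact MorphismProperty.of_postcomp @IsAffineHom (W' := @IsSeparated) (E.map f) (pullback.snd (D.map k.hom) a)
      (@IsSeparated.of_isAffineHom _ _ _ (haff k)) this
  exact (Scheme.nonempty_of_isLimit E c' hc').map (pullbackSymmetry (c.π.app i) a).hom

include hc in
lemma range_π_eq (i : I) :
    Set.range (c.π.app i) = ⋂ (j : I) (φ : j ⟶ i), Set.range (D.map φ) := by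
  refine Set.Subset.antisymm ?_ fun s hs => ?_
  · rintro _ ⟨x, rfl⟩
    refine Set.mem_iInter₂.mpr fun j φ => ⟨c.π.app j x, ?_⟩
    rw [← Scheme.Hom.comp_apply, c.w]
  · have hne := nonempty_pullback_π D c hc i ((D.obj i).fromSpecResidueField s) fun j φ => by
      obtain ⟨y, hy⟩ := Set.mem_iInter₂.mp hs j φ
      obtain ⟨z, -, -⟩ := Scheme.Pullback.exists_preimage_pullback
        (f := (D.obj i).fromSpecResidueField s) (g := D.map φ) (default : Spec ((D.obj i).residueField s)) y
        (by rw [Scheme.fromSpecResidueField_apply, hy])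
      exact ⟨z⟩
    obtain ⟨z⟩ := hne
    refine ⟨pullback.snd ((D.obj i).fromSpecResidueField s) (c.π.app i) z, ?_⟩
    rw [← Scheme.Hom.comp_apply, ← pullback.condition, Scheme.Hom.comp_apply,
      Scheme.fromSpecResidueField_apply]

end GrothLib.LimStage
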