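import Mathlib.AlgebraicGeometry.AffineTransitionLimit
import Mathlib.AlgebraicGeometry.RelativeGluing
import Mathlib.AlgebraicGeometry.AffineScheme

/-!
Existence of limits of cofiltered diagrams of schemes with affine transition maps.
-/

set_option autoImplicit false
set_option backward.isDefEq.respectTransparency false
universe u

open CategoryTheory Limits AlgebraicGeometry

namespace GrothLib.LimStage

lemma hasLimit_of_isAffine {J : Type u} [SmallCategory J] (F : J ⥤ Scheme.{u})
    [∀ j, IsAffine (F.obj j)] : HasLimit F := by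
  let e : F ⟶ (F ⋙ Scheme.Γ.rightOp) ⋙ Scheme.Spec := Functor.whiskerLeft F ΓSpec.adjunction.unit
  have (i : _) : IsIso (e.app i) := IsAffine.affine
  have : IsIso e := NatIso.isIso_of_isIso_app e
  exact HasLimit.mk ⟨_, (IsLimit.postcomposeInvEquiv (asIso e) _).symm
      (isLimitOfPreserves Scheme.Spec (limit.isLimit (F ⋙ Scheme.Γ.rightOp)))⟩

attribute [local instance] CategoryTheory.isConnected_of_hasTerminal

variable {I : Type u} [SmallCategory I] [IsCofiltered I] (D : I ⥤ Scheme.{u})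
  [∀ (i j : I) (f : i ⟶ j), IsAffineHom (D.map f)] (i₀ : I)

instance (U : (D.obj i₀).affineOpens) (j : Over i₀) :
    IsAffine ((opensDiagram D i₀ U.1).obj j) :=
  show IsAffine (D.map j.hom ⁻¹ᵁ U.1).toScheme from U.2.preimage _

instance (U : (D.obj i₀).affineOpens) : HasLimit (opensDiagram D i₀ U.1) :=
  hasLimit_of_isAffine _

/-- Transition map between restricted diagrams. -/
noncomputable def opensMap {U V : (D.obj i₀).Opens} (h : U ≤ V) :
    opensDiagram D i₀ U ⟶ opensDiagram D i₀ V where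
  app j := (D.obj j.left).homOfLE ((D.map j.hom).preimage_mono h)
  naturality j k g := by
    rw [← cancel_mono ((opensDiagramι D i₀ V).app k)]
    simp [opensDiagram, opensDiagramι]

/-- The local pieces. -/
noncomputable abbrev Lim (U : (D.obj i₀).affineOpens) : Scheme.{u} :=
  limit (opensDiagram D i₀ U.1)

/-- The structure map of a local piece. -/
noncomputable def limBase (U : (D.obj i₀).affineOpens) : Lim D i₀ U ⟶ U.1.toScheme :=
  limit.π (opensDiagram D i₀ U.1) (Over.mk (𝟙 i₀)) ≫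
    IsOpenImmersion.lift U.1.ι (D.map (𝟙 i₀) ⁻¹ᵁ U.1).ι (by
      rintro _ ⟨x, rfl⟩
      refine (Scheme.Opens.range_ι U.1).ge ?_
      have := x.2
      change D.map (𝟙 i₀) x.1 ∈ U.1 at this
      change x.1 ∈ U.1
      rw [D.map_id] at this
      exact this)

lemma limBase_ι (U : (D.obj i₀).affineOpens) :
    limBase D i₀ U ≫ U.1.ι =
      limit.π (opensDiagram D i₀ U.1) (Over.mk (𝟙 i₀)) ≫ (D.map (𝟙 i₀) ⁻¹ᵁ U.1).ι := by
  exact (Category.assoc _ _ _).trans (congrArg (_ ≫ ·) (IsOpenImmersion.lift_fac _ _ _))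

/-- The local projections. -/
noncomputable def limProj (U : (D.obj i₀).affineOpens) (j : Over i₀) : Lim D i₀ U ⟶ D.obj j.left :=
  limit.π (opensDiagram D i₀ U.1) j ≫ (D.map j.hom ⁻¹ᵁ U.1).ι

lemma limProj_w (U : (D.obj i₀).affineOpens) {j k : Over i₀} (g : j ⟶ k) :
    limProj D i₀ U j ≫ D.map g.left = limProj D i₀ U k := by
  rw [limProj, limProj, ← limit.w (opensDiagram D i₀ U.1) g, Category.assoc, Category.assoc]
  congr 1
  exact ((opensDiagramι D i₀ U.1).naturality g).symm

lemma limProj_top (U : (D.obj i₀).affineOpens) :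
    limProj D i₀ U (Over.mk (𝟙 i₀)) = limBase D i₀ U ≫ U.1.ι :=
  (limBase_ι D i₀ U).symm

lemma limProj_base (U : (D.obj i₀).affineOpens) (j : Over i₀) :
    limProj D i₀ U j ≫ D.map j.hom = limBase D i₀ U ≫ U.1.ι := by
  rw [← limProj_top]
  exact limProj_w D i₀ U (Over.homMk j.hom : j ⟶ Over.mk (𝟙 i₀))

lemma lim_hom_ext (U : (D.obj i₀).affineOpens) {T : Scheme.{u}} {m m' : T ⟶ Lim D i₀ U}
    (h : ∀ j, m ≫ limProj D i₀ U j = m' ≫ limProj D i₀ U j) : m = m' := by
  refine limit.hom_ext fun j => ?_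
  rw [← cancel_mono (D.map j.hom ⁻¹ᵁ U.1).ι, Category.assoc, Category.assoc]
  exact h j

lemma exists_lim_lift (U : (D.obj i₀).affineOpens) {T : Scheme.{u}}
    (π : ∀ j : Over i₀, T ⟶ D.obj j.left)
    (w : ∀ {j k : Over i₀} (g : j ⟶ k), π j ≫ D.map g.left = π k)
    (h : Set.range (π (Over.mk (𝟙 i₀))) ⊆ (U.1 : Set (D.obj i₀))) :
    ∃ m : T ⟶ Lim D i₀ U, ∀ j, m ≫ limProj D i₀ U j = π j := by
  have hr : ∀ j : Over i₀, Set.range (π j) ⊆ Set.range (D.map j.hom ⁻¹ᵁ U.1).ι := by
    intro j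
    rw [Scheme.Opens.range_ι]
    rintro _ ⟨t, rfl⟩
    change D.map j.hom (π j t) ∈ U.1
    rw [← Scheme.Hom.comp_apply]
    have h2 : π j ≫ D.map j.hom = π (Over.mk (𝟙 i₀)) :=
      w (Over.homMk j.hom : j ⟶ Over.mk (𝟙 i₀))
    rw [h2]
    exact h ⟨t, rfl⟩
  let c : Cone (opensDiagram D i₀ U.1) :=
    { pt := T
      π :=
        { app := fun j => IsOpenImmersion.lift (D.map j.hom ⁻¹ᵁ U.1).ι (π j) (hr j)
          naturality := fun j k g => by
            rw [← cancel_mono ((opensDiagramι D i₀ U.1).app k), Category.assoc, Category.assoc,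
              (opensDiagramι D i₀ U.1).naturality g]
            dsimp [opensDiagramι]
            rw [Category.id_comp, IsOpenImmersion.lift_fac, IsOpenImmersion.lift_fac_assoc]
            exact (w g).symm } }
  refine ⟨limit.lift _ c, fun j => ?_⟩
  exact (limit.lift_π_assoc c j _).trans (IsOpenImmersion.lift_fac _ _ _)

/-- Transition map between local pieces. -/
noncomputable def limTrans {U V : (D.obj i₀).affineOpens} (h : U ≤ V) :
    Lim D i₀ U ⟶ Lim D i₀ V :=
  limMap (opensMap D i₀ h)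

lemma limTrans_proj {U V : (D.obj i₀).affineOpens} (h : U ≤ V) (j : Over i₀) :
    limTrans D i₀ h ≫ limProj D i₀ V j = limProj D i₀ U j := by
  rw [limTrans, limProj, limProj]
  exact (limMap_π_assoc _ _ _).trans (congrArg (_ ≫ ·) (Scheme.homOfLE_ι _ ((D.map j.hom).preimage_mono h)))

lemma limTrans_base {U V : (D.obj i₀).affineOpens} (h : U ≤ V) :
    limTrans D i₀ h ≫ limBase D i₀ V = limBase D i₀ U ≫ (D.obj i₀).homOfLE h := by
  rw [← cancel_mono V.1.ι, Category.assoc, Category.assoc,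
    show (D.obj i₀).homOfLE h ≫ V.1.ι = U.1.ι from Scheme.homOfLE_ι _ (show U.1 ≤ V.1 from h),
    ← limProj_top, ← limProj_top, limTrans_proj]

lemma isPullback_limTrans {U V : (D.obj i₀).affineOpens} (h : U ≤ V) :
    IsPullback (limTrans D i₀ h) (limBase D i₀ U) (limBase D i₀ V) ((D.obj i₀).homOfLE h) := by
  have hex : ∀ s : PullbackCone (limBase D i₀ V) ((D.obj i₀).homOfLE h),
      ∃ m : s.pt ⟶ Lim D i₀ U, ∀ j, m ≫ limProj D i₀ U j = s.fst ≫ limProj D i₀ V j := fun s =>
    exists_lim_lift D i₀ U (fun j => s.fst ≫ limProj D i₀ V j)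
      (fun g => by rw [Category.assoc, limProj_w]) (by
        rintro _ ⟨t, rfl⟩
        have e : s.fst ≫ limProj D i₀ V (Over.mk (𝟙 i₀)) = s.snd ≫ U.1.ι := by
          rw [limProj_top, reassoc_of% s.condition]
          exact congrArg (_ ≫ ·) (Scheme.homOfLE_ι _ (show U.1 ≤ V.1 from h))
        change (s.fst ≫ limProj D i₀ V (Over.mk (𝟙 i₀))) t ∈ U.1
        rw [e]
        exact (s.snd t).2)
  choose m hm using hex
  refine ⟨⟨limTrans_base D i₀ h⟩, ⟨PullbackCone.IsLimit.mk _ m ?_ ?_ ?_⟩⟩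
  · intro s
    refine lim_hom_ext D i₀ V fun j => ?_
    rw [Category.assoc, limTrans_proj]
    exact hm s j
  · intro s
    rw [← cancel_mono U.1.ι, Category.assoc, ← limProj_top, hm s, limProj_top,
      reassoc_of% s.condition]
    exact congrArg (_ ≫ ·) (Scheme.homOfLE_ι _ (show U.1 ≤ V.1 from h))
  · intro s m' h1 _
    refine lim_hom_ext D i₀ U fun j => ?_
    rw [hm s j, ← limTrans_proj D i₀ h, ← Category.assoc, h1]

/-- The gluing datum. -/
noncomputable def glueData :
    Scheme.Cover.RelativeGluingData (D.obj i₀).directedAffineCover where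
  functor :=
    { obj := Lim D i₀
      map := fun {U V} f => limTrans D i₀ (leOfHom f)
      map_id := fun U => lim_hom_ext D i₀ U fun j => by rw [limTrans_proj, Category.id_comp]
      map_comp := fun {U V W} f g => lim_hom_ext D i₀ W fun j => by
        rw [Category.assoc, limTrans_proj, limTrans_proj, limTrans_proj] }
  natTrans :=
    { app := limBase D i₀
      naturality := fun U V f => by
        refine (limTrans_base D i₀ (leOfHom f)).trans ?_
        rfl }
  equifibered := fun {U V} f => isPullback_limTrans D i₀ (leOfHom f)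

theorem hasLimit_forget_comp : HasLimit (Over.forget i₀ ⋙ D) := by
  haveI : Quiver.IsThin (D.obj i₀).directedAffineCover.I₀ :=
    inferInstanceAs (Quiver.IsThin (D.obj i₀).affineOpens)
  let d := glueData D i₀
  haveI : (d.functor ⋙ Scheme.forget).IsLocallyDirected :=
    Scheme.Cover.RelativeGluingData.instIsLocallyDirectedI₀CompFunctorForgetOfIsThin ..
  let p : d.glued ⟶ D.obj i₀ := d.toBase
  let prd : ∀ j : Over i₀, d.glued ⟶ D.obj j.left := fun j => colimit.desc _
    { pt := D.obj j.left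
      ι :=
        { app := fun U => limProj D i₀ U j
          naturality := fun U V f => (limTrans_proj D i₀ (leOfHom f) j).trans (Category.comp_id _).symm } }
  have hι : ∀ (U : (D.obj i₀).affineOpens) j, colimit.ι d.functor U ≫ prd j = limProj D i₀ U j :=
    fun U j => colimit.ι_desc _ _
  have hp : ∀ j : Over i₀, prd j ≫ D.map j.hom = p := fun j => colimit.hom_ext fun U => by
    rw [← Category.assoc, hι U j, d.ι_toBase]
    exact limProj_base D i₀ U j
  let c : Cone (Over.forget i₀ ⋙ D) :=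
    { pt := d.glued
      π :=
        { app := prd
          naturality := fun j k g => by
            refine (Category.id_comp _).trans (colimit.hom_ext fun U => ?_)
            change _ = colimit.ι d.functor U ≫ prd j ≫ D.map g.left
            rw [hι, ← Category.assoc, hι, limProj_w] } }
  have hpU : ∀ U : (D.obj i₀).affineOpens, p ⁻¹ᵁ U.1 = (colimit.ι d.functor U).opensRange := fun U => by
    rw [← d.toBase_preimage_eq_opensRange_ι U]
    congr 1
    exact U.1.opensRange_ι.symm
  have uniq : ∀ {T : Scheme.{u}} (m m' : T ⟶ d.glued),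
      (∀ j, m ≫ prd j = m' ≫ prd j) → m = m' := by
    intro T m m' h
    have hb : m ≫ p = m' ≫ p := by rw [← hp (Over.mk (𝟙 i₀)), ← Category.assoc, h, Category.assoc]
    refine (T.openCoverOfIsOpenCover (fun U : (D.obj i₀).affineOpens => (m ≫ p) ⁻¹ᵁ U.1) ?_).hom_ext _ _
      fun U => ?_
    · change (⨆ U : (D.obj i₀).affineOpens, (m ≫ p) ⁻¹ᵁ U.1) = ⊤
      rw [← Scheme.Hom.preimage_iSup, iSup_affineOpens_eq_top]
      rfl
    · have hr : ∀ n : T ⟶ d.glued, n ≫ p = m ≫ p →
          Set.range (((m ≫ p) ⁻¹ᵁ U.1).ι ≫ n) ⊆ Set.range (colimit.ι d.functor U) := by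
        rintro n hn _ ⟨t, rfl⟩
        have ht : (n ≫ p) t.1 ∈ U.1 := by rw [hn]; exact t.2
        have : n t.1 ∈ p ⁻¹ᵁ U.1 := ht
        rw [hpU] at this
        exact this
      change ((m ≫ p) ⁻¹ᵁ U.1).ι ≫ m = ((m ≫ p) ⁻¹ᵁ U.1).ι ≫ m'
      rw [← IsOpenImmersion.lift_fac _ _ (hr m rfl), ← IsOpenImmersion.lift_fac _ _ (hr m' hb.symm)]
      congr 1
      refine lim_hom_ext D i₀ U fun j => ?_
      rw [← hι U j, IsOpenImmersion.lift_fac_assoc, IsOpenImmersion.lift_fac_assoc, Category.assoc,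
        Category.assoc, h]
  refine HasLimit.mk ⟨c, ?_⟩
  have ex : ∀ s : Cone (Over.forget i₀ ⋙ D), ∃ m : s.pt ⟶ d.glued, ∀ j, m ≫ prd j = s.π.app j := by
    intro s
    let a : s.pt ⟶ D.obj i₀ := s.π.app (Over.mk (𝟙 i₀))
    let 𝒰 := s.pt.openCoverOfIsOpenCover (fun U : (D.obj i₀).affineOpens => a ⁻¹ᵁ U.1) (by
      change (⨆ U : (D.obj i₀).affineOpens, a ⁻¹ᵁ U.1) = ⊤
      rw [← Scheme.Hom.preimage_iSup, iSup_affineOpens_eq_top]
      rfl)
    have hloc : ∀ U : (D.obj i₀).affineOpens, ∃ m : (a ⁻¹ᵁ U.1).toScheme ⟶ d.glued,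
        ∀ j, m ≫ prd j = (a ⁻¹ᵁ U.1).ι ≫ s.π.app j := by
      intro U
      obtain ⟨m, hm⟩ := exists_lim_lift D i₀ U (fun j => (a ⁻¹ᵁ U.1).ι ≫ s.π.app j)
        (fun g => by rw [Category.assoc]; exact congrArg (_ ≫ ·) (s.w g)) (by
          rintro _ ⟨t, rfl⟩; exact t.2)
      exact ⟨m ≫ colimit.ι d.functor U, fun j => by rw [Category.assoc, hι U j, hm]⟩
    choose m hm using hloc
    have hag : ∀ U V, pullback.fst (𝒰.f U) (𝒰.f V) ≫ m U = pullback.snd _ _ ≫ m V := fun U V =>
      uniq _ _ fun j => by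
        rw [Category.assoc, Category.assoc, hm, hm]
        exact pullback.condition_assoc _
    exact ⟨𝒰.glueMorphisms m hag, fun j => 𝒰.hom_ext _ _ fun U => by
      rw [Scheme.Cover.ι_glueMorphisms_assoc]; exact hm U j⟩
  exact
    { lift := fun s => (ex s).choose
      fac := fun s j => (ex s).choose_spec j
      uniq := fun s m hm => uniq _ _ fun j => (hm j).trans ((ex s).choose_spec j).symm }

include D in
theorem hasLimit_affineTransition : HasLimit D := by
  obtain ⟨i⟩ := IsCofiltered.nonempty (C := I)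
  haveI := hasLimit_forget_comp D i
  exact Functor.Initial.hasLimit_of_comp (Over.forget i)

end GrothLib.LimStage
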